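import Mathlib

set_option autoImplicit false

open TensorProduct

namespace Groth.Agent.Helper7.SepSmooth

variable (k K : Type*) [Field k] [Field K] [Algebra k K]

/-- MacLane: a geometrically reduced extension preserves linear independence under `p`-th powers -/
theorem linearIndepOn_pow (p : ℕ) (hp : p.Prime) [CharP k p]
    [Algebra.IsGeometricallyReduced k K] (s : Finset K)
    (hs : LinearIndepOn k _root_.id (s : Set K)) : LinearIndepOn k (· ^ p) (s : Set K) := by
  classical
  have : Fact p.Prime := ⟨hp⟩
  rw [LinearIndepOn, Fintype.linearIndependent_iff]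
  intro c hc i
  have hd : ∀ x : (s : Set K), ∃ d : AlgebraicClosure k, d ^ p = algebraMap k _ (c x) :=
    fun x => IsAlgClosed.exists_pow_nat_eq _ hp.pos
  choose d hd using hd
  let t : AlgebraicClosure k ⊗[k] K := ∑ x : (s : Set K), d x ⊗ₜ[k] (x : K)
  have : CharP (AlgebraicClosure k) p := charP_of_injective_algebraMap
    (algebraMap k (AlgebraicClosure k)).injective p
  have : CharP (AlgebraicClosure k ⊗[k] K) p := charP_of_injective_algebraMap
    (algebraMap (AlgebraicClosure k) (AlgebraicClosure k ⊗[k] K)).injective p
  have ht : t ^ p = 0 := by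
    rw [sum_pow_char]
    have h1 : ∀ x : (s : Set K), (d x ⊗ₜ[k] (x : K)) ^ p =
        (1 : AlgebraicClosure k) ⊗ₜ[k] (c x • (x : K) ^ p) := by
      intro x
      rw [Algebra.TensorProduct.tmul_pow, hd, Algebra.algebraMap_eq_smul_one,
        TensorProduct.smul_tmul]
    rw [Finset.sum_congr rfl (fun x _ => h1 x), ← TensorProduct.tmul_sum, hc, tmul_zero]
  have ht0 : t = 0 := IsReduced.eq_zero _ ⟨p, ht⟩
  have hLI := Module.Flat.linearIndependent_one_tmul (S := AlgebraicClosure k) hs
  rw [Fintype.linearIndependent_iff] at hLI
  have h2 := hLI d (by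
    rw [← ht0]
    refine Finset.sum_congr rfl fun x _ => ?_
    rw [TensorProduct.smul_tmul', smul_eq_mul, mul_one]
    rfl) i
  have h3 := hd i
  rw [h2, zero_pow hp.ne_zero] at h3
  exact (map_eq_zero_iff _ (algebraMap k (AlgebraicClosure k)).injective).mp h3.symm

/-- a finitely generated geometrically reduced field extension is formally smooth -/
theorem formallySmooth [Algebra.EssFiniteType k K] [Algebra.IsGeometricallyReduced k K] :
    Algebra.FormallySmooth k K := by
  obtain _ | ⟨p, hp, hpk⟩ := CharP.exists' k
  · exact Algebra.FormallySmooth.of_perfectField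
  · obtain ⟨s, hs, H⟩ :=
      exists_isTranscendenceBasis_and_isSeparable_of_linearIndepOn_pow_of_essFiniteType
        (k := k) (K := K) p hp.out (fun s hs => linearIndepOn_pow k K p hp.out s hs)
    have : Algebra.IsSeparable (↥(IntermediateField.adjoin k (Set.range ((↑) : s → K)))) K := by
      convert! H <;> simp
    exact .of_algebraicIndependent_of_isSeparable hs.1

end Groth.Agent.Helper7.SepSmooth
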