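import Mathlib
import Groth.Agent.Lib.Helper7.Field.SepSmooth

set_option autoImplicit false

open TensorProduct

universe u

namespace Groth.Agent.Helper7.SepSmooth

open scoped IntermediateField.algebraAdjoinAdjoin in
/-- every finite subset of a separable field extension lies in a smooth subalgebra -/
theorem exists_smooth_subalgebra (k : Type u) [Field k] (K : Type u) [Field K] [Algebra k K]
    [Algebra.IsGeometricallyReduced k K] (E : Finset K) :
    ∃ A : Subalgebra k K, (↑E : Set K) ⊆ (A : Set K) ∧ Algebra.Smooth k A := by
  classical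
  have hess : Algebra.EssFiniteType k (IntermediateField.adjoin k (E : Set K)) :=
    IntermediateField.essFiniteType_iff.mpr ⟨E, rfl⟩
  have hgr : Algebra.IsGeometricallyReduced k (IntermediateField.adjoin k (E : Set K)) :=
    Algebra.IsGeometricallyReduced.of_injective (IntermediateField.adjoin k (E : Set K)).val
      (IntermediateField.adjoin k (E : Set K)).val.injective
  have hfs : Algebra.FormallySmooth k (IntermediateField.adjoin k (E : Set K)) :=
    formallySmooth k _
  have hft : Algebra.FiniteType k (Algebra.adjoin k (E : Set K)) :=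
    Algebra.FiniteType.adjoin_of_finite E.finite_toSet
  have hfp : Algebra.FinitePresentation k (Algebra.adjoin k (E : Set K)) :=
    Algebra.FinitePresentation.of_finiteType.mp hft
  have hbot : (⊥ : Ideal (Algebra.adjoin k (E : Set K))).IsPrime := Ideal.isPrime_bot
  have hloc : IsLocalization (nonZeroDivisors (Algebra.adjoin k (E : Set K)))
      (Localization.AtPrime (⊥ : Ideal (Algebra.adjoin k (E : Set K)))) := by
    rw [← Ideal.primeCompl_bot]
    infer_instance
  have hsm : Algebra.IsSmoothAt k (⊥ : Ideal (Algebra.adjoin k (E : Set K))) := by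
    let e : (IntermediateField.adjoin k (E : Set K)) ≃ₐ[Algebra.adjoin k (E : Set K)]
        Localization.AtPrime (⊥ : Ideal (Algebra.adjoin k (E : Set K))) :=
      IsLocalization.algEquiv (nonZeroDivisors (Algebra.adjoin k (E : Set K))) _ _
    exact Algebra.FormallySmooth.of_equiv (e.restrictScalars k)
  obtain ⟨f, hf, hsmf⟩ := Algebra.IsSmoothAt.exists_notMem_smooth k
    (⊥ : Ideal (Algebra.adjoin k (E : Set K)))
  have hf0 : f ≠ 0 := fun h => hf (by rw [h]; exact Ideal.zero_mem _)
  have hunit : ∀ y : Submonoid.powers f, IsUnit ((Algebra.adjoin k (E : Set K)).val y) := by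
    rintro ⟨_, n, rfl⟩
    apply IsUnit.mk0
    simp only [Subalgebra.coe_val, SubmonoidClass.coe_pow, ne_eq, pow_eq_zero_iff', not_and]
    intro h
    exact absurd (Subtype.ext h) hf0
  let φ : Localization.Away f →ₐ[k] K := IsLocalization.liftAlgHom hunit
  have hinj : Function.Injective φ := by
    change Function.Injective (IsLocalization.lift hunit)
    rw [IsLocalization.lift_injective_iff]
    intro x y
    have h1 : Function.Injective (algebraMap (Algebra.adjoin k (E : Set K)) (Localization.Away f)) :=
      IsLocalization.injective _ (powers_le_nonZeroDivisors_of_noZeroDivisors hf0)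
    rw [h1.eq_iff]
    exact (Subtype.val_injective.eq_iff).symm
  refine ⟨φ.range, ?_, ?_⟩
  · intro x hx
    refine ⟨algebraMap _ _ (⟨x, Algebra.subset_adjoin hx⟩ : Algebra.adjoin k (E : Set K)), ?_⟩
    change IsLocalization.lift hunit _ = x
    rw [IsLocalization.lift_eq]
    rfl
  · exact Algebra.Smooth.of_equiv (AlgEquiv.ofInjective φ hinj)

end Groth.Agent.Helper7.SepSmooth
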